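import Groth.Agent.QCoh.LocFree
import Groth.Agent.QCoh.SpecFT
import Mathlib.Algebra.Category.ModuleCat.Sheaf.LocallyFree
import Mathlib.RingTheory.Finiteness.Projective

/-!
# Locally free modules of finite type are finite locally free
-/

set_option autoImplicit false
set_option backward.isDefEq.respectTransparency false
set_option backward.isDefEq.respectTransparency.types false
set_option linter.style.haveILetI false

universe u

open CategoryTheory CategoryTheory.Limits AlgebraicGeometry TopologicalSpace Opposite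

namespace Groth.Agent.TwSh10

open Groth.Agent.QCoh

variable {X : Scheme.{u}} {M : X.Modules}

/-- Sections of a locally free module on a small affine open form a free module. -/
theorem exists_affine_free_sections (h : SheafOfModules.IsLocallyFree (R := X.ringCatSheaf) M) (x : X) :
    ∃ V : X.Opens, x ∈ V ∧ IsAffineOpen V ∧ Module.Free Γ(X, V) Γ(M, V) := by
  obtain ⟨σ, hσ⟩ := h.exists_isLocallyFreeData
  have hc : iSup σ.X = ⊤ := (Opens.coversTop_iff _ _).1 σ.coversTop
  obtain ⟨i, hi⟩ := Opens.mem_iSup.1 (show x ∈ iSup σ.X by rw [hc]; trivial)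
  obtain ⟨_, ⟨D, hD, rfl⟩, hxD, hle⟩ :=
    X.isBasis_affineOpens.exists_subset_of_mem_open hi (σ.X i).2
  have hD' : IsAffineOpen D := hD
  refine ⟨D, hxD, hD', ?_⟩
  have : IsIso (σ.generators i).π := hσ.isIso i
  have : PreservesColimitsOfSize.{u, u}
    (Scheme.Modules.restrictFunctor (hD'.isoSpec.inv ≫ X.homOfLE hle)) := inferInstance
  let F := (Scheme.Modules.overEquiv (σ.X i)).functor ⋙
    Scheme.Modules.restrictFunctor (hD'.isoSpec.inv ≫ X.homOfLE hle)
  have : PreservesColimitsOfSize.{u, u} F :=
    Limits.comp_preservesColimits (Scheme.Modules.overEquiv (σ.X i)).functor _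
  let g := (σ.generators i).map F (Scheme.Modules.restrictUnitIso _).symm
  let e : (SheafOfModules.free.{u} g.I : (Spec Γ(X, D)).Modules) ≅ M.restrict hD'.fromSpec :=
    asIso g.π ≪≫ (overChartIso hD' hle).app M
  let l := (moduleSpecΓFunctor.mapIso ((tildeFinsupp (R := Γ(X, D)) g.I) ≪≫ e)).symm ≪≫
    ((tilde.toTildeΓNatIso (R := Γ(X, D))).app (ModuleCat.of Γ(X, D) (g.I →₀ Γ(X, D)))).symm
  let l' : moduleSpecΓFunctor.obj (M.restrict hD'.fromSpec) ≃ₗ[Γ(X, D)] (g.I →₀ Γ(X, D)) := l.toLinearEquiv
  exact Module.Free.of_equiv ((chartEquiv hD' M).trans l').symm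

theorem isFinLocFree_of_isLocallyFree (h : SheafOfModules.IsLocallyFree (R := X.ringCatSheaf) M)
    (hft : CohB1.IsFT M) : FlatMod.IsFinLocFree M := by
  have hM : Coh.IsQCoh M :=
    haveI := h; (inferInstance : SheafOfModules.IsQuasicoherent (R := X.ringCatSheaf) M)
  choose V hxV hV hfree using exists_affine_free_sections h
  refine isFlat_and_isFP_iff.1 ⟨fun x => ?_,
    isFP_of_finitePresentation hM V (top_unique fun x _ => Opens.mem_iSup.2 ⟨x, hxV x⟩) hV fun x => ?_⟩
  · haveI := hfree x
    exact (flat_sections_iff hM (hV x)).1 inferInstance x (hxV x)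
  · haveI := hfree x
    haveI := finite_of_isFT hM hft (hV x)
    exact Module.finitePresentation_of_projective _ _

theorem isLocallyFree_of_isFinLocFree (h : FlatMod.IsFinLocFree M) :
    SheafOfModules.IsLocallyFree (R := X.ringCatSheaf) M := by
  choose U n hxU he using h
  have key : ∀ x, ∃ gen : (SheafOfModules.over M (U x)).GeneratingSections, IsIso gen.π := by
    intro x
    let Y : Scheme.{u} := U x
    let s₀ := SheafOfModules.free.generatingSections (R := Y.ringCatSheaf) (ULift.{u} (Fin (n x)))
    let e₀ : (SheafOfModules.free.{u} (ULift.{u} (Fin (n x))) : Y.Modules) ≅ M.restrict (U x).ι :=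
      (freeModIso Y (n x)).symm ≪≫ (he x).some.symm
    let s₁ := s₀.ofEpi e₀.hom
    haveI h₁ : IsIso s₁.π := by
      rw [SheafOfModules.GeneratingSections.ofEpi_π, SheafOfModules.free.generatingSections_π]
      exact IsIso.comp_isIso
    let s₂ := s₁.map (Scheme.Modules.overEquiv (U x)).inverse
      (TopologicalSpace.Opens.sheafOfModulesEquivOverInverseUnit (U x) X.ringCatSheaf).symm
    haveI h₂ : IsIso s₂.π := inferInstance
    let e₁ := (Scheme.Modules.overEquiv (U x)).inverse.mapIso ((Scheme.Modules.overFunctorEquiv (U x)).app M).symm ≪≫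
        ((Scheme.Modules.overEquiv (U x)).unitIso.app (SheafOfModules.over M (U x))).symm
    exact ⟨s₂.ofEpi e₁.hom, by rw [SheafOfModules.GeneratingSections.ofEpi_π]; exact IsIso.comp_isIso⟩
  choose gen hgen using key
  let q : SheafOfModules.LocalGeneratorsData.{u} (R := X.ringCatSheaf) M :=
    { I := X, X := U, coversTop := (Opens.coversTop_iff _ U).2 (top_unique fun x _ => Opens.mem_iSup.2 ⟨x, hxU x⟩),
      generators := gen }
  haveI : q.IsLocallyFreeData := by constructor; exact hgen
  exact q.isLocallyFree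

theorem isLocallyFree_and_isFT_iff :
    (SheafOfModules.IsLocallyFree (R := X.ringCatSheaf) M ∧ CohB1.IsFT M) ↔ FlatMod.IsFinLocFree M :=
  ⟨fun h => isFinLocFree_of_isLocallyFree h.1 h.2,
    fun h => ⟨isLocallyFree_of_isFinLocFree h, isFT_of_isFP (isFP_of_isFinLocFree h)⟩⟩

end Groth.Agent.TwSh10
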