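import Groth.Agent.FTDescent.FP
import Groth.Agent.FlatFun4.FPPull
import Groth.Agent.TwSh10.LocFree
import Groth.Agent.AlgStkX.BGGerbe
import Mathlib.AlgebraicGeometry.Morphisms.UniversallyOpen

/-!
# Finiteness conditions on a module descend along a covering sieve of the big fppf site
-/

set_option autoImplicit false
set_option backward.isDefEq.respectTransparency false
set_option backward.isDefEq.respectTransparency.types false
set_option linter.style.haveILetI false

universe u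

open CategoryTheory CategoryTheory.Limits AlgebraicGeometry TopologicalSpace Opposite

namespace Groth.Agent.TwSh10

open Groth.Agent.QCoh

variable {X : Scheme.{u}} {M : X.Modules}

/-- A property of modules stable under isomorphism and inverse image. -/
structure Pullable (P : ∀ {Y : Scheme.{u}}, Y.Modules → Prop) : Prop where
  iso : ∀ {Y : Scheme.{u}} {A B : Y.Modules}, (A ≅ B) → P A → P B
  pull : ∀ {Y Z : Scheme.{u}} (g : Z ⟶ Y) {A : Y.Modules}, Coh.IsQCoh A → P A → P ((Scheme.Modules.pullback g).obj A)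

/-- A module has a property locally for the fppf topology. -/
def FppfLocally (P : ∀ {Y : Scheme.{u}}, Y.Modules → Prop) (M : X.Modules) : Prop :=
  ∀ x : X, ∃ (W : Scheme.{u}) (g : W ⟶ X), Flat g ∧ LocallyOfFinitePresentation g ∧ x ∈ Set.range g ∧
    P ((Scheme.Modules.pullback g).obj M)

/-- Over an affine neighbourhood a flat surjective quasi-compact morphism witnesses the property. -/
theorem exists_affine_witness {P : ∀ {Y : Scheme.{u}}, Y.Modules → Prop} (hP : Pullable P) (hM : Coh.IsQCoh M)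
    (h : FppfLocally P M) (x : X) :
    ∃ (U : X.Opens) (hU : IsAffineOpen U) (W : Scheme.{u}) (f : W ⟶ Spec Γ(X, U)),
      x ∈ U ∧ Flat f ∧ Surjective f ∧ QuasiCompact f ∧ P ((Scheme.Modules.pullback f).obj (M.restrict hU.fromSpec)) := by
  obtain ⟨W, g, _, _, ⟨y, rfl⟩, hg⟩ := h x
  obtain ⟨_, ⟨U₀', hU₀, rfl⟩, hyU₀, -⟩ :=
    X.isBasis_affineOpens.exists_subset_of_mem_open (Set.mem_univ (g y)) isOpen_univ
  let U₀ : X.Opens := U₀'
  obtain ⟨_, ⟨V, hV, rfl⟩, hyV, hVle⟩ :=
    W.isBasis_affineOpens.exists_subset_of_mem_open (show y ∈ g ⁻¹ᵁ U₀ from hyU₀) (g ⁻¹ᵁ U₀).2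
  have hV' : IsAffineOpen V := hV
  obtain ⟨_, ⟨U, hU, rfl⟩, hyU, hUle⟩ := X.isBasis_affineOpens.exists_subset_of_mem_open
    (Set.mem_image_of_mem g hyV) (g.isOpenMap _ V.2)
  have hU' : IsAffineOpen U := hU
  let g₁ := hV'.fromSpec ≫ g
  let g₀ : Spec Γ(W, V) ⟶ (U₀ : Scheme.{u}) := IsOpenImmersion.lift U₀.ι g₁ (by
    rintro _ ⟨z, rfl⟩
    rw [Scheme.Opens.range_ι]
    exact hVle (hV'.range_fromSpec ▸ Set.mem_range_self z))
  have hg₀ : g₀ ≫ U₀.ι = g₁ := IsOpenImmersion.lift_fac _ _ _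
  have hUU₀ : U ≤ U₀ := fun z hz => by
    obtain ⟨w, hw, rfl⟩ := hUle hz
    exact hVle hw
  let a : Spec Γ(X, U) ⟶ (U₀ : Scheme.{u}) := IsOpenImmersion.lift U₀.ι hU'.fromSpec (by
    rw [Scheme.Opens.range_ι, hU'.range_fromSpec]; exact hUU₀)
  have ha : a ≫ U₀.ι = hU'.fromSpec := IsOpenImmersion.lift_fac _ _ _
  haveI : IsAffine (U₀ : Scheme.{u}) := hU₀
  haveI : IsAffineHom g₀ := isAffineHom_of_isAffine g₀
  haveI : Flat g₁ := inferInstanceAs (Flat (hV'.fromSpec ≫ g))
  haveI : Flat g₀ := by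
    have : IsPullback (𝟙 _) g₀ g₁ U₀.ι :=
      IsPullback.of_horiz_isIso_mono ⟨by rw [Category.id_comp, hg₀]⟩
    exact MorphismProperty.of_isPullback (P := @Flat) this ‹Flat g₁›
  let f := pullback.snd g₀ a
  refine ⟨U, hU', _, f, hyU, inferInstance, ?_, inferInstance, ?_⟩
  · refine ⟨fun z => ?_⟩
    have hz : hU'.fromSpec z ∈ g '' (V : Set W) := hUle (hU'.range_fromSpec ▸ Set.mem_range_self z)
    obtain ⟨w, hw, hwz⟩ := hz
    obtain ⟨v, hv⟩ : w ∈ Set.range hV'.fromSpec := hV'.range_fromSpec.symm ▸ hw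
    obtain ⟨p, -, hp⟩ := Scheme.Pullback.exists_preimage_pullback v z (by
      refine U₀.ι.isOpenEmbedding.injective ?_
      show U₀.ι (g₀ v) = U₀.ι (a z)
      rw [← Scheme.Hom.comp_apply, ← Scheme.Hom.comp_apply, hg₀, ha, Scheme.Hom.comp_apply, hv, hwz])
    exact ⟨p, hp⟩
  · refine hP.iso (A := (Scheme.Modules.pullback (pullback.fst g₀ a ≫ hV'.fromSpec)).obj
      ((Scheme.Modules.pullback g).obj M)) ?_ (hP.pull _ (QCoh.isQCoh_pullback g hM) hg)
    exact (Scheme.Modules.pullbackComp _ g).app M ≪≫ (Scheme.Modules.pullbackCongr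
      (show (pullback.fst g₀ a ≫ hV'.fromSpec) ≫ g = f ≫ hU'.fromSpec by
        rw [Category.assoc, ← ha]
        show pullback.fst g₀ a ≫ g₁ = _
        rw [← hg₀, pullback.condition_assoc])).app M ≪≫
      ((Scheme.Modules.pullbackComp f hU'.fromSpec).app M).symm ≪≫
      (Scheme.Modules.pullback f).mapIso ((Scheme.Modules.restrictFunctorIsoPullback hU'.fromSpec).app M).symm

theorem isFT_of_iso {A B : X.Modules} (e : A ≅ B) (h : CohB1.IsFT A) : CohB1.IsFT B := by
  obtain ⟨σ, hσ⟩ := h.exists_localGeneratorsData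
  let q : SheafOfModules.LocalGeneratorsData.{u} (R := X.ringCatSheaf) B :=
    { I := σ.I, X := σ.X, coversTop := σ.coversTop,
      generators := fun i => (σ.generators i).ofEpi ((SheafOfModules.overFunctor X.ringCatSheaf (σ.X i)).map e.hom) }
  have hq : q.IsFiniteType := by
    constructor
    intro i
    haveI := hσ.isFiniteType i
    exact ⟨inferInstanceAs (Finite (σ.generators i).I)⟩
  constructor
  exact ⟨q, hq⟩

theorem isFP_of_iso {A B : X.Modules} (e : A ≅ B) (h : CohB1.IsFP A) : CohB1.IsFP B := by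
  exact (SheafOfModules.isFinitePresentation X.ringCatSheaf).prop_of_iso e h

theorem isFT_pullback {X Y : Scheme.{u}} (f : Y ⟶ X) {M : X.Modules} (hM : Coh.IsQCoh M) (hft : CohB1.IsFT M) :
    CohB1.IsFT ((Scheme.Modules.pullback f).obj M) := by
  have key : ∀ y : Y, ∃ W : Y.Opens, IsAffineOpen W ∧ y ∈ W ∧
      Module.Finite Γ(Y, W) Γ((Scheme.Modules.pullback f).obj M, W) := by
    intro y
    obtain ⟨V, hV, hxV, -⟩ := exists_isAffineOpen_mem_and_subset (x := f y) (U := ⊤) trivial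
    obtain ⟨W, hW, hxW, hle⟩ := exists_isAffineOpen_mem_and_subset (x := y) (U := f ⁻¹ᵁ V) hxV
    refine ⟨W, hW, hxW, ?_⟩
    letI := (f.appLE V W hle).hom.toAlgebra
    letI : Module Γ(X, V) Γ((Scheme.Modules.pullback f).obj M, W) := Module.compHom _ (f.appLE V W hle).hom
    haveI : IsScalarTower Γ(X, V) Γ(Y, W) Γ((Scheme.Modules.pullback f).obj M, W) :=
      .of_algebraMap_smul fun _ _ => rfl
    haveI := finite_of_isFT hM hft hV
    obtain ⟨l, hl⟩ := FlatFun4.exists_baseChange_sections f hM hV hW hle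
    exact Module.Finite.equiv hl.equiv
  choose W hW hxW hfin using key
  exact isFT_of_finite (QCoh.isQCoh_pullback f hM) W
    (IsOpenCover.mk (eq_top_iff.2 fun x _ => Opens.mem_iSup.2 ⟨x, hxW x⟩)) hW hfin

theorem pullable_isFT : Pullable @CohB1.IsFT.{u} where
  iso e h := isFT_of_iso e h
  pull := fun {_ _} g {_} hA h => isFT_pullback g hA h

theorem pullable_isFP : Pullable @CohB1.IsFP.{u} where
  iso e h := isFP_of_iso e h
  pull := fun {_ _} g {_} _ h => FlatFun4.isFP_pullback g h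

theorem isFT_of_fppfLocally (hM : Coh.IsQCoh M) (h : FppfLocally @CohB1.IsFT.{u} M) : CohB1.IsFT M := by
  choose U hU W f hxU _ _ _ hf using exists_affine_witness pullable_isFT hM h
  refine isFT_of_finite hM U (top_unique fun x _ => Opens.mem_iSup.2 ⟨x, hxU x⟩) hU fun x => ?_
  have hq := isQCoh_restrict (hU x).fromSpec hM
  have hc := (ZClosLib.isFT_of_pullback (f x) hq ⟨QCoh.isQCoh_pullback (f x) hq, hf x⟩).2
  haveI := (isFT_iff_finite _ hq).1 hc
  exact Module.Finite.equiv (chartEquiv (hU x) M).symm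

theorem isFP_of_fppfLocally (hM : Coh.IsQCoh M) (h : FppfLocally @CohB1.IsFP.{u} M) : CohB1.IsFP M := by
  choose U hU W f hxU _ _ _ hf using exists_affine_witness pullable_isFP hM h
  refine isFP_of_finitePresentation hM U (top_unique fun x _ => Opens.mem_iSup.2 ⟨x, hxU x⟩) hU fun x => ?_
  have hq := isQCoh_restrict (hU x).fromSpec hM
  haveI := (isFP_iff_finitePresentation _ hq).1 (FTDescent.isFP_of_pullback (f x) hq (hf x))
  exact Module.FinitePresentation.of_equiv (chartEquiv (hU x) M).symm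

theorem isFinLocFree_of_fppfLocally (hM : Coh.IsQCoh M) (h : FppfLocally @FlatMod.IsFinLocFree.{u} M) :
    FlatMod.IsFinLocFree M := by
  refine isFlat_and_isFP_iff.1 ⟨fun x => ?_, isFP_of_fppfLocally hM fun x => ?_⟩
  · obtain ⟨W, g, _, _, ⟨y, rfl⟩, hg⟩ := h x
    have h1 : Module.Flat (W.presheaf.stalk y)
        ((DerSch.stalkFunctor W y).obj ((Scheme.Modules.pullback g).obj M)) := (isFlat_and_isFP_iff.2 hg).1 y
    haveI h2 : Module.Flat (W.presheaf.stalk y)
        ((Scheme.Modules.pullback g ⋙ DerSch.stalkFunctor W y).obj M) := h1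
    exact FTDescent.flat_of_extend (g.stalkMap y) (Flat.stalkMap g y) (M := (DerSch.stalkFunctor X (g.base y)).obj M)
      (Module.Flat.of_linearEquiv ((KFlatLib.stalkPullbackIso g y).app M).toLinearEquiv.symm)
  · obtain ⟨W, g, h1, h2, hx, hg⟩ := h x
    exact ⟨W, g, h1, h2, hx, isFP_of_isFinLocFree hg⟩

variable {S : Scheme.{u}}

/-- A covering sieve of the big fppf site contains flat, locally finitely presented members through every point. -/
theorem exists_member {T : Over S} {R : Sieve T} (hR : R ∈ QuotSh.J Scheme.fppfPrecoverage S T) (x : T.left) :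
    ∃ (V : Over S) (f : V ⟶ T), R f ∧ Flat f.left ∧ LocallyOfFinitePresentation f.left ∧ x ∈ Set.range f.left := by
  rw [GrothendieckTopology.mem_over_iff, Precoverage.mem_toGrothendieck_iff_of_isStableUnderComposition] at hR
  obtain ⟨R₀, hR₀, hle⟩ := hR
  obtain ⟨Y, g₁, hg₁, hx⟩ := hR₀.1 x
  obtain @⟨Y₀, g, hg⟩ := hg₁
  have hfl := hR₀.2 hg
  exact ⟨Over.mk (g ≫ T.hom), Over.homMk g rfl, (Sieve.overEquiv_iff _ _).1 (hle _ g hg), hfl.1, hfl.2, hx⟩

end Groth.Agent.TwSh10
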